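import Cfsg.Agent.H101.K4.SuzPsi
import Cfsg.Agent.H101.Cod.SporSuz
import Cfsg.Agent.H417.BlockCount

/-!
# The rational irreducible character of degree 143 of the Suzuki group (helper101)

* `exists_143` : from `SuzPsi.lean` (fixed points of `s` in the representation of degree 299 of `Co1`, `C(s)/⟨s⟩ = Suz`);
* `mod11`, `mod13` : the character degrees of `Suz` modulo 11 and 13; `card_cent` : the centralizers of the elements of
  order 11 and 13.
-/

set_option autoImplicit false
set_option maxRecDepth 100000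

namespace Cfsg.Agent.H101.K4.SuzRow

open Cfsg Subgroup Cfsg.Agent.Characters.Core
open Cfsg.Spor (Suz)
open Cfsg.Agent.SporadicRecognition.SuzOrder (card_Suz)
open Cfsg.Agent.H265.SuzCent (dvd_thirteen dvd_eleven)
open Cfsg.Agent.H101.Cod.SporSuz (finS odd_of)
open Cfsg.Agent.M23Order.Base
open scoped ComplexConjugate

universe u

/-! ### the characters modulo 11 and 13 -/

theorem card_cent {p : ℕ} (hp : p = 11 ∨ p = 13) {x : Suz} (hx : orderOf x = p) :
    Nat.card (centralizer ({x} : Set Suz)) = p := by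
  have hfin := finS
  have h1 : Nat.card (centralizer ({x} : Set Suz)) ∣ 2 ^ 13 * p := by
    rcases hp with rfl | rfl
    · exact dvd_eleven hx
    · exact dvd_thirteen hx
  have h2 := (Nat.Prime.coprime_iff_not_dvd Nat.prime_two).2 (odd_of hp hx)
  have h3 : Nat.card (centralizer ({x} : Set Suz)) ∣ p :=
    (Nat.Coprime.pow_right 13 h2.symm).dvd_of_dvd_mul_left h1
  have h4 : p ∣ Nat.card (centralizer ({x} : Set Suz)) := by
    have := orderOf_dvd_natCard (⟨x, mem_centralizer_singleton_iff.2 rfl⟩ : centralizer ({x} : Set Suz))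
    rwa [Subgroup.orderOf_mk, hx] at this
  exact Nat.dvd_antisymm h3 h4

theorem mod13 (χ : IrrCharacter Suz) : dg χ % 13 = 0 ∨ dg χ % 13 = 1 ∨ dg χ % 13 = 12 ∨ dg χ % 13 = 6 ∨
    dg χ % 13 = 7 := by
  have hfin := finS
  have : Fact (Nat.Prime 13) := ⟨by norm_num⟩
  obtain ⟨P, hP, ⟨D⟩⟩ := H417.BlockCount.exists_SC (G := Suz) 13 (by norm_num) (by rw [card_Suz]; norm_num)
    (by rw [card_Suz]; norm_num) (fun y hy => card_cent (Or.inr rfl) hy) (e := 6) (t := 2)
    (by rw [card_Suz]) (by norm_num)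
  exact H417.BlockCount.mod_cases D (by norm_num) (by norm_num) (by norm_num) χ

theorem mod11 (χ : IrrCharacter Suz) : dg χ % 11 = 0 ∨ dg χ % 11 = 1 ∨ dg χ % 11 = 10 := by
  have hfin := finS
  have : Fact (Nat.Prime 11) := ⟨by norm_num⟩
  obtain ⟨P, hP, ⟨D⟩⟩ := H417.BlockCount.exists_SC (G := Suz) 11 (by norm_num) (by rw [card_Suz]; norm_num)
    (by rw [card_Suz]; norm_num) (fun y hy => card_cent (Or.inl rfl) hy) (e := 10) (t := 1)
    (by rw [card_Suz]) (by norm_num)
  have := H417.BlockCount.mod_cases D (by norm_num) (by norm_num) (by norm_num) χ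
  omega

/-! ### the character of degree 143 -/

theorem isIrr_equiv {S T : Type*} [Group S] [Group T] (e : T ≃* S) {χ : S → ℂ} (h : IsIrrCharacter S χ) :
    IsIrrCharacter T (fun t => χ (e t)) := isIrr_comp e.toMonoidHom e.surjective h

theorem exists_143 : ∃ χ : IrrCharacter Suz, (χ : Suz → ℂ) 1 = (143 : ℕ) ∧ ∀ g, ∃ q : ℚ, (χ : Suz → ℂ) g = q := by
  have hfin := finS
  obtain ⟨f⟩ := LThreeCo1Suz.Main.t0
  have hs : IsSimpleGroup Suz := Cfsg.Agent.S1694.result.1
  have hs' : IsSimpleGroup SuzPsi.XS := f.isSimpleGroup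
  obtain ⟨μ, -, m, hm, hμ⟩ := SuzPsi.exists_mu
  let χ : IrrCharacter Suz := ⟨_, isIrr_equiv f.symm μ.2⟩
  have h1 : (χ : Suz → ℂ) 1 = 143 - m := by
    show (μ : SuzPsi.XS → ℂ) (f.symm 1) = _
    rw [map_one]
    have h2 := hμ 1
    rw [SuzPsi.Ps_one] at h2
    linear_combination -h2
  have h2 : dg χ = 143 - m := by
    rw [dg_eq] at h1
    have h3 : ((dg χ + m : ℕ) : ℂ) = (143 : ℕ) := by
      push_cast
      linear_combination h1
    have h4 : dg χ + m = 143 := by exact_mod_cast h3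
    omega
  have h3 := mod13 χ
  have h4 := mod11 χ
  have h5 := dg_dvd χ
  rw [card_Suz] at h5
  rw [h2] at h3 h4 h5
  have h6 : m = 0 := by
    interval_cases m
    · rfl
    all_goals exfalso; omega
  subst h6
  refine ⟨χ, ?_, fun g => ?_⟩
  · rw [h1]
    norm_num
  · obtain ⟨q, hq⟩ := SuzPsi.Ps_rat (f.symm g)
    refine ⟨q, ?_⟩
    show (μ : SuzPsi.XS → ℂ) (f.symm g) = q
    rw [← hq, hμ]
    simp

end Cfsg.Agent.H101.K4.SuzRow
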