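import Cfsg.Agent.H101.K4.SuzWt
import Cfsg.Agent.H101.K4.Orb
import Cfsg.Agent.LThreeCo1Suz.Main
import Cfsg.Agent.CharactersDeep.CosetAverage
import Cfsg.Agent.H843.IMC.Co1B
import Cfsg.Agent.H843.IMC.Free

/-!
# A rational character of degree 143 of the Suzuki group (helper101)

`s = pr (e 1)` has order 3 in `Co1`, `C(s) / ⟨s⟩ = Suz`; the fixed points of `s` in the representation of degree 299 of
`Co1` afford a rational character `Ψ` of degree 143 of `C(s) / ⟨s⟩`. The nonprincipal weights of `3^5` in `Ψ` are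
`cc i - cc j` (`i ≠ j`), of multiplicity one, permuted transitively by the normalizer: `Ψ = m + μ` with `μ`
irreducible, `m ≤ 11`.
-/

set_option autoImplicit false
set_option maxRecDepth 20000

namespace Cfsg.Agent.H101.K4.SuzPsi

open Cfsg Subgroup Cfsg.Agent.LThreeCo1.AGrp Cfsg.Agent.LThreeCo1.Rel Cfsg.Agent.LThreeCo1.Class
open Cfsg.Agent.H101.K4.SuzWt Cfsg.Agent.Characters.Core Cfsg.Agent.CoOneType.CoOneE
open Cfsg.Agent.H843.IMC.Co1B Cfsg.Agent.H419.Spor.Co1
open scoped ComplexConjugate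

/-! ### transitivity on the ordered pairs of weights -/

/-- the permutation of the weights induced by `e 7` -/
def p7 (i : Fin 12) : Fin 12 := (![0, 1, 3, 6, 9, 10, 2, 5, 4, 8, 7, 11] : Fin 12 → Fin 12) i

/-- the permutation of the weights induced by `e 11` -/
def p11 (i : Fin 12) : Fin 12 := (![11, 6, 2, 10, 0, 4, 9, 1, 5, 8, 7, 3] : Fin 12 → Fin 12) i

/-- words -/
def tab : List ℕ := [0, 1, 662, 260, 362, 152, 276, 290, 164, 582, 408, 1368, 40, 0, 66, 194, 32, 466, 134, 210, 224,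
  96, 82, 708, 44, 850, 0, 140, 28, 118, 58, 834, 154, 90, 268, 76, 108, 1874, 10, 0, 410, 1858, 396, 780, 218, 4, 22,
  204, 856, 148, 406, 1538, 0, 234, 326, 116, 88, 100, 162, 132, 68, 198, 1734, 98, 612, 0, 114, 84, 866, 56, 48, 940,
  64, 338, 130, 26, 474, 352, 0, 54, 12, 262, 322, 72, 452, 70, 34, 50, 24, 16, 710, 0, 1676, 354, 468, 428, 344, 214,
  514, 256, 36, 356, 150, 106, 0, 472, 52, 384, 730, 86, 258, 136, 216, 20, 594, 418, 228, 0, 42, 128, 196, 454, 18,
  332, 1890, 212, 226, 38, 8, 652, 0, 172, 618, 546, 6, 14, 280, 292, 2, 664, 1094, 532, 804, 0]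

/-- the action of the word coded by `n` -/
def act : ℕ → ℕ → Fin 12 × Fin 12 → Fin 12 × Fin 12
  | 0, _, p => p
  | k + 1, n, p => if n ≤ 1 then p else if n % 2 = 1 then act k (n / 2) (p7 p.1, p7 p.2)
    else act k (n / 2) (p11 p.1, p11 p.2)

theorem reach : ∀ i j : Fin 12, i ≠ j → act 12 (tab.getD (12 * i.val + j.val) 0) (0, 1) = (i, j) := by decide +kernel

theorem act_inv {f : Fin 12 × Fin 12 → ℂ} (h7 : ∀ p : Fin 12 × Fin 12, f (p7 p.1, p7 p.2) = f p)
    (h11 : ∀ p : Fin 12 × Fin 12, f (p11 p.1, p11 p.2) = f p) :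
    ∀ (k n : ℕ) (p : Fin 12 × Fin 12), f (act k n p) = f p := by
  intro k
  induction k with
  | zero => intro n p; rfl
  | succ k ih =>
    intro n p
    unfold act
    split_ifs
    · rfl
    · rw [ih, h7]
    · rw [ih, h11]

theorem all_eq {f : Fin 12 × Fin 12 → ℂ} (h7 : ∀ p : Fin 12 × Fin 12, f (p7 p.1, p7 p.2) = f p)
    (h11 : ∀ p : Fin 12 × Fin 12, f (p11 p.1, p11 p.2) = f p) {i j : Fin 12} (hij : i ≠ j) : f (i, j) = f (0, 1) := by
  rw [← reach i j hij, act_inv h7 h11]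

theorem w7 : ∀ i : Fin 12, ∀ j : Fin 6, dt (cc i) (vc (c 7 j.val)) = cc (p7 i) j := by decide +kernel
theorem w11 : ∀ i : Fin 12, ∀ j : Fin 6, dt (cc i) (vc (c 11 j.val)) = cc (p11 i) j := by decide +kernel

theorem dt_lin (d : V) (c : Fin 6 → V) (v : V) : dt d (lin c v) = dt (fun j => dt d (c j)) v := by
  unfold dt lin
  ring

/-! ### the group -/

/-- the element of order 3 -/
noncomputable abbrev s : Spor.Co1 := QuotientGroup.mk (e 1)

theorem s_eq : s = pr (e 1) := rfl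

theorem e1_eq : e 1 = Ph a (Pi.single 0 1) := by
  have hv : (1 : ZMod 3).val = 1 := rfl
  unfold Ph
  simp [a, hv]

/-- `t ↦ Ph a t` in the centralizer -/
noncomputable def F0 : Multiplicative V →* ↥(centralizer ({s} : Set Spor.Co1)) :=
  ((pr : Co0 →* Spor.Co1).comp (hom hA)).codRestrict _ fun t => by
    rw [mem_centralizer_singleton_iff]
    show pr (Ph a t.toAdd) * pr (e 1) = pr (e 1) * pr (Ph a t.toAdd)
    rw [← map_mul, ← map_mul]
    congr 1
    rw [e1_eq, hA.ph_comm]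

theorem F0_val (t : Multiplicative V) : (F0 t : Spor.Co1) = pr (Ph a t.toAdd) := rfl

theorem F0_e : F0 (Multiplicative.ofAdd (Pi.single 0 1)) = LThreeMB.self s := by
  apply Subtype.ext
  show pr (Ph a (Pi.single 0 1)) = s
  rw [← e1_eq]
  rfl

theorem s_ne : s ≠ 1 := Cfsg.Agent.LThreeCo1Suz.Full.p_ne

theorem self_cube : LThreeMB.self s ^ 3 = 1 := by
  rw [← F0_e, ← map_pow]
  have h : (Multiplicative.ofAdd (Pi.single 0 1 : V)) ^ 3 = 1 := by decide +kernel
  rw [h, map_one]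

theorem self_ne : LThreeMB.self s ≠ 1 := fun h => s_ne (congrArg Subtype.val h)

theorem order_self : orderOf (LThreeMB.self s) = 3 := by
  have : Fact (Nat.Prime 3) := ⟨by norm_num⟩
  exact orderOf_eq_prime self_cube self_ne

/-- `C(s) / ⟨s⟩` -/
abbrev XS : Type := LThreeMB.XX s

/-- `3^6 → C(s) / ⟨s⟩` -/
noncomputable def F : Multiplicative V →* XS := (QuotientGroup.mk' (LThreeMB.Zx s)).comp F0

instance finCo1 : Finite Spor.Co1 := by
  have : Finite Co0 := Cfsg.Agent.CoOneType.FrameFix.finite_co0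
  infer_instance

instance finXS : Finite XS := Quotient.finite _

noncomputable instance ftXS : Fintype XS := Fintype.ofFinite _

/-! ### the character -/

/-- the irreducible character of degree 299 -/
noncomputable def xi : IrrCharacter Spor.Co1 := exists_299.choose

theorem xi_deg : charDegree (xi : Spor.Co1 → ℂ) = 299 := exists_299.choose_spec.1

theorem xi_om (g : Co0) : (xi : Spor.Co1 → ℂ) (pr g) = om g - 1 := by
  rw [exists_299.choose_spec.2 g]
  ring_nf
  rfl

theorem xi_rat (q : Spor.Co1) : ∃ r : ℚ, (xi : Spor.Co1 → ℂ) q = r := by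
  obtain ⟨g, rfl⟩ := pr_surjective q
  refine ⟨(((Cfsg.Agent.Co2Type.Mono.tr8 g : ℚ) / 8) ^ 2 + (Cfsg.Agent.Co2Type.Mono.tr8 (g * g) : ℚ) / 8) / 2 - 1, ?_⟩
  have h2 : om g = (((Cfsg.Agent.Co2Type.Mono.tr8 g : ℂ) / 8) ^ 2 +
    (Cfsg.Agent.Co2Type.Mono.tr8 (g * g) : ℂ) / 8) / 2 := rfl
  rw [xi_om, h2]
  push_cast
  ring

/-- the coset averages -/
noncomputable def Ps0 (k : ↥(centralizer ({s} : Set Spor.Co1))) : ℂ :=
  (3 : ℂ)⁻¹ * ∑ i : Fin 3, (xi : Spor.Co1 → ℂ) (((LThreeMB.self s) ^ (i : ℕ) * k :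
    ↥(centralizer ({s} : Set Spor.Co1))) : Spor.Co1)

theorem Ps0_eq [Fintype (LThreeMB.Zx s)] (k : ↥(centralizer ({s} : Set Spor.Co1))) :
    Ps0 k = (Nat.card (LThreeMB.Zx s) : ℂ)⁻¹ * ∑ n : LThreeMB.Zx s, (xi : Spor.Co1 → ℂ) (((n :
      ↥(centralizer ({s} : Set Spor.Co1))) * k : ↥(centralizer ({s} : Set Spor.Co1))) : Spor.Co1) := by
  have hfo : IsOfFinOrder (LThreeMB.self s) := isOfFinOrder_iff_pow_eq_one.2 ⟨3, by norm_num, self_cube⟩
  have hc : Nat.card (LThreeMB.Zx s) = 3 := by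
    rw [LThreeMB.Zx, Nat.card_zpowers, order_self]
  rw [hc, Ps0]
  congr 1
  let ε : Fin 3 ≃ LThreeMB.Zx s := (finCongr order_self.symm).trans (finEquivZPowers hfo)
  refine Fintype.sum_equiv ε _ _ fun i => ?_
  have h1 : ((ε i : LThreeMB.Zx s) : ↥(centralizer ({s} : Set Spor.Co1))) = LThreeMB.self s ^ (i : ℕ) := by
    show ((finEquivZPowers hfo (finCongr order_self.symm i) : _) : ↥(centralizer ({s} : Set Spor.Co1))) = _
    rw [finEquivZPowers_apply]
    rfl
  rw [h1]

theorem isCharacter_Ps0 : IsCharacter _ Ps0 := by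
  have := Fintype.ofFinite (LThreeMB.Zx s)
  have h1 : IsCharacter _ (fun k : ↥(centralizer ({s} : Set Spor.Co1)) => (xi : Spor.Co1 → ℂ) k) :=
    isCharacter_comp (centralizer ({s} : Set Spor.Co1)).subtype (isIrr_isCharacter xi.2)
  have h2 := Cfsg.Agent.CharactersDeep.CosetAverage.isCharacter_cosetAverage (LThreeMB.Zx s) h1
  have h3 : Ps0 = fun g => (Nat.card (LThreeMB.Zx s) : ℂ)⁻¹ * ∑ n : LThreeMB.Zx s, (xi : Spor.Co1 → ℂ) (((n :
      ↥(centralizer ({s} : Set Spor.Co1))) * g : ↥(centralizer ({s} : Set Spor.Co1))) : Spor.Co1) :=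
    funext fun k => Ps0_eq k
  rw [h3]
  exact h2

theorem Ps0_inv {k k' : ↥(centralizer ({s} : Set Spor.Co1))} (h : (QuotientGroup.mk k : XS) = QuotientGroup.mk k') :
    Ps0 k = Ps0 k' := by
  have := Fintype.ofFinite (LThreeMB.Zx s)
  rw [QuotientGroup.eq] at h
  have h1 : k' = (⟨k⁻¹ * k', h⟩ : LThreeMB.Zx s) * k := by
    have h2 := Subgroup.mem_center_iff.1 (LThreeMB.Zx_le_center s h) k
    show k' = k⁻¹ * k' * k
    rw [← h2]
    group
  conv_rhs => rw [h1]
  rw [Ps0_eq, Ps0_eq]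
  exact (Cfsg.Agent.CharactersDeep.CosetAverage.cosetAverage_invariant (LThreeMB.Zx s)
    (fun k : ↥(centralizer ({s} : Set Spor.Co1)) => (xi : Spor.Co1 → ℂ) k) ⟨k⁻¹ * k', h⟩ k).symm

/-- **The character.** -/
noncomputable def Ps (q : XS) : ℂ := Ps0 (Quotient.out q)

theorem Ps_mk (k : ↥(centralizer ({s} : Set Spor.Co1))) : Ps (QuotientGroup.mk k) = Ps0 k :=
  Ps0_inv (Quotient.out_eq _)

theorem isCharacter_Ps : IsCharacter XS Ps := by
  refine Cfsg.Agent.H843.IMC.isCharacter_descend _ ?_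
  have h : Ps ∘ QuotientGroup.mk' (LThreeMB.Zx s) = Ps0 := funext fun k => Ps_mk k
  rw [h]
  exact isCharacter_Ps0

theorem Ps_rat (q : XS) : ∃ r : ℚ, Ps q = r := by
  choose r hr using fun i : Fin 3 => xi_rat (((LThreeMB.self s) ^ (i : ℕ) * Quotient.out q :
    ↥(centralizer ({s} : Set Spor.Co1))) : Spor.Co1)
  refine ⟨(3 : ℚ)⁻¹ * ∑ i, r i, ?_⟩
  rw [Ps, Ps0, Finset.sum_congr rfl fun i _ => hr i]
  push_cast
  rfl

/-! ### the values on `3^6` -/

/-- sum of the weights -/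
noncomputable def S (t : V) : ℂ := ∑ i : Fin 12, ee (dt (cc i) t)

/-- sum of the negatives of the weights -/
noncomputable def S' (t : V) : ℂ := ∑ i : Fin 12, ee (-dt (cc i) t)

theorem chi_eq (t : V) : chi (Ph a t) = S t + S' t := by
  rw [S, S', ← Finset.sum_add_distrib]
  exact chi_Ph t

theorem cc_zero : ∀ i : Fin 12, cc i 0 = 1 := by decide +kernel

theorem dt_add_e (i : Fin 12) (t : V) (k : ZMod 3) : dt (cc i) (t + Pi.single 0 k) = dt (cc i) t + k := by
  rw [dt_add]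
  congr 1
  unfold dt
  simp [cc_zero]

theorem S_add (t : V) (k : ZMod 3) : S (t + Pi.single 0 k) = ee k * S t := by
  rw [S, S, Finset.mul_sum]
  refine Finset.sum_congr rfl fun i _ => ?_
  rw [dt_add_e, ee_add, mul_comm]

theorem S'_add (t : V) (k : ZMod 3) : S' (t + Pi.single 0 k) = ee (-k) * S' t := by
  rw [S', S', Finset.mul_sum]
  refine Finset.sum_congr rfl fun i _ => ?_
  rw [dt_add_e, neg_add, ee_add, mul_comm]

theorem dt_dbl (c t : V) : dt c (t + t) = -dt c t := by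
  rw [dt_add]
  have h : ∀ x : ZMod 3, x + x = -x := by decide
  exact h _

theorem S_dbl (t : V) : S (t + t) = S' t := by
  rw [S, S']
  exact Finset.sum_congr rfl fun i _ => by rw [dt_dbl]

theorem S'_dbl (t : V) : S' (t + t) = S t := by
  rw [S, S']
  exact Finset.sum_congr rfl fun i _ => by rw [dt_dbl, neg_neg]

theorem om_eq (t : V) : om (Ph a t) = ((S t + S' t) ^ 2 + (S t + S' t)) / 2 := by
  rw [om, ← hA.add, chi_eq, chi_eq, S_dbl, S'_dbl]
  ring

theorem self_pow (i : ℕ) (t : V) : (((LThreeMB.self s) ^ i * F0 (Multiplicative.ofAdd t) :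
    ↥(centralizer ({s} : Set Spor.Co1))) : Spor.Co1) = pr (Ph a (t + Pi.single 0 (i : ZMod 3))) := by
  rw [← F0_e, ← map_pow, ← map_mul, F0_val]
  congr 2
  have h : (Multiplicative.ofAdd (Pi.single 0 1 : V)) ^ i = Multiplicative.ofAdd (Pi.single 0 (i : ZMod 3)) := by
    rw [← ofAdd_nsmul]
    congr 1
    funext j
    rw [Pi.smul_apply]
    by_cases hj : j = 0
    · subst hj
      simp
    · rw [Pi.single_eq_of_ne hj, Pi.single_eq_of_ne hj, smul_zero]
  rw [h, toAdd_mul, add_comm]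
  rfl

theorem Ps_F (t : V) : Ps (F (Multiplicative.ofAdd t)) = S t * S' t - 1 := by
  show Ps (QuotientGroup.mk (F0 (Multiplicative.ofAdd t))) = _
  rw [Ps_mk, Ps0, Fin.sum_univ_three, self_pow, self_pow, self_pow, xi_om, xi_om, xi_om, om_eq, om_eq, om_eq,
    S_add, S_add, S_add, S'_add, S'_add, S'_add]
  have h0 : ee ((((0 : Fin 3) : ℕ) : ℕ) : ZMod 3) = 1 := ee_zero
  have h0' : ee (-((((0 : Fin 3) : ℕ) : ℕ) : ZMod 3)) = 1 := ee_zero
  have h1 : ee ((((1 : Fin 3) : ℕ) : ℕ) : ZMod 3) = ee 1 := rfl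
  have h1' : ee (-((((1 : Fin 3) : ℕ) : ℕ) : ZMod 3)) = ee 1 * ee 1 := ee_two
  have h2 : ee ((((2 : Fin 3) : ℕ) : ℕ) : ZMod 3) = ee 1 * ee 1 := ee_two
  have h2' : ee (-((((2 : Fin 3) : ℕ) : ℕ) : ZMod 3)) = ee 1 := rfl
  rw [h0, h0', h1, h1', h2, h2']
  have hq := ee_quad
  have hc := ee_cube
  set w := ee 1
  have hw2 : w * w = -w - 1 := by linear_combination hq
  linear_combination (norm := skip) (0 : ℂ) * hq
  rw [hw2]
  ring_nf
  have hw3 : w ^ 2 = -w - 1 := by rw [pow_two, hw2]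
  rw [hw3]
  ring

/-! ### multiplicities -/

/-- the linear characters of `3^6` -/
noncomputable def lamH (d : V) : Multiplicative V →* ℂ where
  toFun t := ee (dt d t.toAdd)
  map_one' := by
    show ee (dt d 0) = 1
    rw [dt_zero, ee_zero]
  map_mul' t u := by
    show ee (dt d (t.toAdd + u.toAdd)) = _
    rw [dt_add, ee_add]

/-- the linear characters of `3^6` -/
noncomputable def lam (d : V) : Multiplicative V → ℂ := fun t => ee (dt d t.toAdd)

theorem isIrr_lam (d : V) : IsIrrCharacter (Multiplicative V) (lam d) := by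
  have h := Cfsg.Agent.Characters.Linear.isIrrCharacter_hom (lamH d).toHomUnits
  exact h

theorem dt_single (d : V) (j : Fin 6) : dt d (Pi.single j 1) = d j := by
  unfold dt
  fin_cases j <;> simp

theorem lam_inj {d d' : V} (h : lam d = lam d') : d = d' := by
  funext j
  have h1 := congrFun h (Multiplicative.ofAdd (Pi.single j 1))
  have h2 := ee_inj h1
  rwa [toAdd_ofAdd, dt_single, dt_single] at h2

theorem lam_zero : lam 0 = 1 := by
  funext t
  show ee (dt 0 t.toAdd) = 1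
  have h : dt 0 t.toAdd = 0 := by unfold dt; simp
  rw [h, ee_zero]

theorem Ps_comp : Ps ∘ F = (11 : ℂ) • (1 : Multiplicative V → ℂ) +
    ∑ p ∈ Finset.univ.filter (fun p : Fin 12 × Fin 12 => p.1 ≠ p.2), lam (cc p.1 - cc p.2) := by
  funext t
  have h1 : (Ps ∘ F) t = S t.toAdd * S' t.toAdd - 1 := Ps_F t.toAdd
  have h2 : S t.toAdd * S' t.toAdd = ∑ p : Fin 12 × Fin 12, lam (cc p.1 - cc p.2) t := by
    rw [S, S', Finset.sum_mul_sum, ← Finset.univ_product_univ, Finset.sum_product]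
    refine Finset.sum_congr rfl fun i _ => Finset.sum_congr rfl fun j _ => ?_
    rw [← ee_add, ← sub_eq_add_neg, ← dt_sub_left]
    rfl
  rw [h1, h2, ← Finset.sum_filter_add_sum_filter_not Finset.univ (fun p : Fin 12 × Fin 12 => p.1 ≠ p.2)]
  have h3 : ∑ p ∈ Finset.univ.filter (fun p : Fin 12 × Fin 12 => ¬ p.1 ≠ p.2), lam (cc p.1 - cc p.2) t = 12 := by
    have h4 : ∀ p ∈ Finset.univ.filter (fun p : Fin 12 × Fin 12 => ¬ p.1 ≠ p.2), lam (cc p.1 - cc p.2) t = 1 := by
      intro p hp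
      have h5 : p.1 = p.2 := not_not.1 (Finset.mem_filter.1 hp).2
      rw [h5, sub_self, lam_zero]
      rfl
    rw [Finset.sum_congr rfl h4, Finset.sum_const]
    have h6 : (Finset.univ.filter (fun p : Fin 12 × Fin 12 => ¬ p.1 ≠ p.2)).card = 12 := by decide +kernel
    rw [h6]
    norm_num
  rw [h3]
  simp only [Pi.add_apply, Pi.smul_apply, Pi.one_apply, smul_eq_mul, mul_one, Finset.sum_apply]
  ring

theorem inner_Ps {η : Multiplicative V → ℂ} (hη : IsIrrCharacter (Multiplicative V) η) :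
    classInner (Ps ∘ F) η = (11 : ℂ) * (if (1 : Multiplicative V → ℂ) = η then 1 else 0) +
      ∑ p ∈ Finset.univ.filter (fun p : Fin 12 × Fin 12 => p.1 ≠ p.2),
        if lam (cc p.1 - cc p.2) = η then (1 : ℂ) else 0 := by
  rw [Ps_comp, classInner_add_left, classInner_smul_left, classInner_sum_left, classInner_irr isIrr_one hη]
  congr 1
  exact Finset.sum_congr rfl fun p _ => classInner_irr (isIrr_lam _) hη

/-- the first weight -/
noncomputable def th : Multiplicative V → ℂ := lam (cc 0 - cc 1)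

theorem k_one : ∀ k l : Fin 12, k ≠ l → cc k - cc l = cc 0 - cc 1 → (k, l) = (0, 1) := by decide +kernel

theorem k_ne : cc 0 - cc 1 ≠ 0 := by decide +kernel

theorem isIrr_th : IsIrrCharacter (Multiplicative V) th := isIrr_lam _

theorem th_ne : th ≠ 1 := by
  intro h
  rw [th, ← lam_zero] at h
  exact k_ne (lam_inj h)

theorem inner_th : classInner (Ps ∘ F) th = 1 := by
  rw [inner_Ps isIrr_th, if_neg (Ne.symm th_ne), mul_zero, zero_add, Finset.sum_eq_single (0, 1)]
  · exact if_pos rfl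
  · intro p hp hne
    rw [if_neg]
    intro h
    exact hne (k_one p.1 p.2 (Finset.mem_filter.1 hp).2 (lam_inj h))
  · intro h
    exfalso
    apply h
    rw [Finset.mem_filter]
    exact ⟨Finset.mem_univ _, by decide⟩

theorem lin_sub (c : Fin 6 → V) (v w : V) : lin c (v - w) = lin c v - lin c w := by
  funext i
  unfold lin
  simp only [Pi.sub_apply]
  ring

/-- the map on `3^6` -/
noncomputable def tau (c : Fin 6 → V) (h : ∀ v : V, lin c v = 0 → v = 0) : Multiplicative V ≃ Multiplicative V :=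
  Equiv.ofBijective (fun t => Multiplicative.ofAdd (lin c t.toAdd)) (Finite.injective_iff_bijective.1 (by
    intro v w hvw
    have h1 : lin c v.toAdd = lin c w.toAdd := Multiplicative.ofAdd.injective hvw
    apply Multiplicative.toAdd.injective
    rw [← sub_eq_zero]
    apply h
    rw [lin_sub, h1, sub_self]))

theorem k7 : ∀ v : V, lin (fun j => vc (c 7 j.val)) v = 0 → v = 0 := by decide +kernel
theorem k11 : ∀ v : V, lin (fun j => vc (c 11 j.val)) v = 0 → v = 0 := by decide +kernel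

theorem orb {g : ℕ} (hg : cj g = true) (h0 : vc (c g 0) = Pi.single 0 1)
    (hk : ∀ v : V, lin (fun j => vc (c g j.val)) v = 0 → v = 0) (π : Fin 12 → Fin 12)
    (hw : ∀ i : Fin 12, ∀ j : Fin 6, dt (cc i) (vc (c g j.val)) = cc (π i) j) {ψ : XS → ℂ} (hψ : IsClassFunction XS ψ)
    (p : Fin 12 × Fin 12) : classInner (ψ ∘ F) (lam (cc (π p.1) - cc (π p.2))) =
      classInner (ψ ∘ F) (lam (cc p.1 - cc p.2)) := by
  have hcomm : pr (e g) * s = s * pr (e g) := by
    rw [s_eq, ← map_mul, ← map_mul]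
    congr 1
    have h1 := cj_spec hg (Pi.single 0 1)
    have h2 : lin (fun j => vc (c g j.val)) (Pi.single 0 1) = Pi.single 0 1 := by
      rw [← h0]
      have h3 : vc (c g 0) 0 = 1 ∧ vc (c g 0) 1 = 0 ∧ vc (c g 0) 2 = 0 ∧ vc (c g 0) 3 = 0 ∧ vc (c g 0) 4 = 0 ∧
          vc (c g 0) 5 = 0 := by
        rw [h0]
        simp
      funext i
      unfold lin
      rw [h3.1, h3.2.1, h3.2.2.1, h3.2.2.2.1, h3.2.2.2.2.1, h3.2.2.2.2.2]
      simp
    rw [h2, ← e1_eq] at h1
    calc e g * e 1 = (e g * e 1 * (e g)⁻¹) * e g := by group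
      _ = e 1 * e g := by rw [h1]
  let n : XS := QuotientGroup.mk ⟨pr (e g), mem_centralizer_singleton_iff.2 hcomm⟩
  have h1 := classInner_conj F hψ n (tau _ hk) (fun t => by
    show QuotientGroup.mk (⟨pr (e g), mem_centralizer_singleton_iff.2 hcomm⟩ * F0 t *
      (⟨pr (e g), mem_centralizer_singleton_iff.2 hcomm⟩ : ↥(centralizer ({s} : Set Spor.Co1)))⁻¹) =
      (QuotientGroup.mk (F0 (tau _ hk t)) : XS)
    congr 1
    apply Subtype.ext
    show pr (e g) * pr (Ph a t.toAdd) * (pr (e g))⁻¹ = pr (Ph a (lin (fun j => vc (c g j.val)) t.toAdd))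
    rw [← map_inv, ← map_mul, ← map_mul, cj_spec hg]) (lam (cc p.1 - cc p.2))
  rw [← h1]
  congr 1
  funext t
  show ee (dt (cc (π p.1) - cc (π p.2)) t.toAdd) =
    ee (dt (cc p.1 - cc p.2) (lin (fun j => vc (c g j.val)) t.toAdd))
  rw [dt_lin]
  congr 2
  funext j
  rw [dt_sub_left, hw, hw]
  rfl

theorem orbit {ψ : XS → ℂ} (hψ : IsClassFunction XS ψ) {i j : Fin 12} (hij : i ≠ j) :
    classInner (ψ ∘ F) (lam (cc i - cc j)) = classInner (ψ ∘ F) th :=
  all_eq (f := fun p => classInner (ψ ∘ F) (lam (cc p.1 - cc p.2)))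
    (orb k_7 (by decide +kernel) k7 p7 w7 hψ) (orb k_11 (by decide +kernel) k11 p11 w11 hψ) hij

theorem F_ne : ∃ t, F t ≠ 1 := by
  by_contra hcon
  push Not at hcon
  have h1 : Ps ∘ F = (Ps 1) • (1 : Multiplicative V → ℂ) := by
    funext t
    show Ps (F t) = Ps 1 * 1
    rw [hcon t, mul_one]
  have h2 := inner_th
  rw [h1, classInner_smul_left, classInner_irr_ne isIrr_one isIrr_th (Ne.symm th_ne), mul_zero] at h2
  exact zero_ne_one h2

theorem S_zero : S 0 = 12 ∧ S' 0 = 12 := by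
  constructor
  · rw [S, Finset.sum_congr rfl fun i _ => by rw [dt_zero, ee_zero]]
    norm_num
  · rw [S', Finset.sum_congr rfl fun i _ => by rw [dt_zero, neg_zero, ee_zero]]
    norm_num

theorem Ps_one : Ps 1 = 143 := by
  have h := Ps_F 0
  have h1 : F (Multiplicative.ofAdd (0 : V)) = 1 := map_one F
  rw [h1, S_zero.1, S_zero.2] at h
  rw [h]
  norm_num

/-- **The decomposition.** -/
theorem exists_mu [IsSimpleGroup XS] : ∃ μ : IrrCharacter XS, (μ : XS → ℂ) ≠ 1 ∧ ∃ m : ℕ, m ≤ 11 ∧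
    ∀ g, Ps g = m + (μ : XS → ℂ) g := by
  obtain ⟨μ, h1, m, h2⟩ := irr_of_orbit F F_ne isCharacter_Ps isIrr_th th_ne inner_th (by
    intro η hη hη1 hne ψ
    rw [inner_Ps hη, if_neg (Ne.symm hη1), mul_zero, zero_add] at hne
    obtain ⟨p, hp, h1⟩ := Finset.exists_ne_zero_of_sum_ne_zero hne
    have h2 : lam (cc p.1 - cc p.2) = η := by
      by_contra h3
      rw [if_neg h3] at h1
      exact h1 rfl
    rw [← h2]
    exact orbit (isCharacter_isClassFunction (isIrr_isCharacter ψ.2)) (Finset.mem_filter.1 hp).2)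
  refine ⟨μ, h1, m, ?_, h2⟩
  obtain ⟨k, hk⟩ := classInner_isNat (isCharacter_comp F (isIrr_isCharacter μ.2)) (isIrr_isCharacter
    (isIrr_one (G := Multiplicative V)))
  have h3 : Ps ∘ F = (m : ℂ) • (1 : Multiplicative V → ℂ) + (μ : XS → ℂ) ∘ F := by
    funext t
    show Ps (F t) = m * 1 + (μ : XS → ℂ) (F t)
    rw [h2, mul_one]
  have h4 := inner_Ps (isIrr_one (G := Multiplicative V))
  rw [if_pos rfl, Finset.sum_eq_zero, h3, classInner_add_left, classInner_smul_left,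
    classInner_irr_self isIrr_one] at h4
  · have h5 : classInner ((μ : XS → ℂ) ∘ F) 1 = k := hk
    rw [h5] at h4
    have h6 : ((m + k : ℕ) : ℂ) = ((11 : ℕ) : ℂ) := by
      push_cast
      linear_combination h4
    have h7 : m + k = 11 := by exact_mod_cast h6
    omega
  · intro p hp
    rw [if_neg]
    intro h
    rw [← lam_zero] at h
    have h5 := lam_inj h
    have h6 : ∀ i j : Fin 12, cc i - cc j = 0 → i = j := by decide +kernel
    exact (Finset.mem_filter.1 hp).2 (h6 _ _ h5)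

end Cfsg.Agent.H101.K4.SuzPsi
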